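import Groth.Agent.KInj.Ops
import Groth.Agent.HDU.Top
import Mathlib.CategoryTheory.Limits.MonoCoprod
import Mathlib.Algebra.Homology.HomotopyCategory.ShortExact
import Mathlib.Algebra.Homology.DerivedCategory.ShortExact
import Mathlib.Algebra.Category.Grp.AB

/-!
Telescopes of towers of cochain complexes indexed by `ℤ`.
-/

set_option autoImplicit false
set_option backward.isDefEq.respectTransparency false
set_option backward.isDefEq.respectTransparency.types false

universe w v u

open CategoryTheory Category Limits CochainComplex HomComplex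

namespace Groth.Agent.FilTower

variable {A : Type u} [Category.{v} A] [Abelian A] [HasColimitsOfSize.{0, 0} A]

/-- `idx i n = i + n`, defined by recursion on `n`. -/
def idx (i : ℤ) : ℕ → ℤ
  | 0 => i
  | n + 1 => idx i n + 1

lemma idx_eq (i : ℤ) (n : ℕ) : idx i n = i + n := by
  induction n with
  | zero => simp [idx]
  | succ n ih => simp [idx, ih, add_assoc]

lemma idx_injective (i : ℤ) : Function.Injective (idx i) := fun a b h => by
  simpa [idx_eq] using h

lemma idx_succ_left (i : ℤ) (n : ℕ) : idx (i + 1) n = idx i (n + 1) := by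
  simp only [idx_eq, Nat.cast_add, Nat.cast_one]; ring

/-- A map out of a coproduct of complexes is null homotopic if it is so on the summands. -/
lemma nonempty_homotopy_of_sigma {T : Type} {K : T → CochainComplex A ℤ} {L : CochainComplex A ℤ}
    (f : (∐ K) ⟶ L) (h : ∀ t, Nonempty (Homotopy (Sigma.ι K t ≫ f) 0)) :
    Nonempty (Homotopy f 0) := by
  choose α hα using fun t => KInj.exists_delta_eq _ (h t).some
  let col := fun a => isColimitCofanMkObjOfIsColimit (HomologicalComplex.eval A (ComplexShape.up ℤ) a)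
    _ _ (coproductIsCoproduct K)
  refine KInj.nonempty_homotopy_of_delta_eq (Cochain.mk fun a b hab =>
    Cofan.IsColimit.desc (col a) fun t => (α t).v a b hab) ?_
  ext a
  refine Cofan.IsColimit.hom_ext (col a) _ _ fun t => ?_
  have hfac : ∀ (a' b' : ℤ) (h' : a' + -1 = b'),
      (Sigma.ι K t).f a' ≫ Cofan.IsColimit.desc (col a') (fun t => (α t).v a' b' h') =
        (α t).v a' b' h' :=
    fun a' b' h' => Cofan.IsColimit.fac (col a') _ t
  show (Sigma.ι K t).f a ≫ _ = (Sigma.ι K t).f a ≫ _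
  have h3 := Cochain.congr_v (hα t) a a (add_zero a)
  rw [δ_v (-1) 0 (neg_add_cancel 1) _ a a (add_zero a) (a - 1) (a + 1) rfl rfl] at h3 ⊢
  simp only [Cochain.mk_v, Cochain.ofHom_v, Preadditive.comp_add,
    Int.negOnePow_zero, one_smul, HomologicalComplex.comp_f] at h3 ⊢
  rw [← h3, reassoc_of% (hfac a (a - 1) (sub_eq_add_neg a 1).symm), (Sigma.ι K t).comm_assoc,
    hfac (a + 1) a (add_neg_cancel_right a 1)]

omit [HasColimitsOfSize.{0, 0} A] in
lemma mono_coneMap {K₁ L₁ K₂ L₂ : CochainComplex A ℤ} (φ₁ : K₁ ⟶ L₁) (φ₂ : K₂ ⟶ L₂)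
    (a : K₁ ⟶ K₂) (b : L₁ ⟶ L₂) (comm : φ₁ ≫ b = a ≫ φ₂) [Mono a] [Mono b] :
    Mono (mappingCone.map φ₁ φ₂ a b comm) := by
  have : ∀ n, Mono ((mappingCone.map φ₁ φ₂ a b comm).f n) := fun n => by
    refine Preadditive.mono_of_cancel_zero _ fun {Z} x hx => ?_
    have hmap : (mappingCone.map φ₁ φ₂ a b comm).f n =
        (mappingCone.fst φ₁).1.v n (n + 1) rfl ≫ a.f (n + 1) ≫
          (mappingCone.inl φ₂).v (n + 1) n (by lia) +
        (mappingCone.snd φ₁).v n n (add_zero n) ≫ b.f n ≫ (mappingCone.inr φ₂).f n := by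
      simp [mappingCone.map, mappingCone.desc_f _ _ _ _ n (n + 1) rfl]
    rw [hmap] at hx
    have h1 := hx =≫ (mappingCone.fst φ₂).1.v n (n + 1) rfl
    have h2 := hx =≫ (mappingCone.snd φ₂).v n n (add_zero n)
    simp at h1 h2
    rw [← assoc] at h1 h2
    rw [← zero_comp (f := a.f (n + 1)), cancel_mono] at h1
    rw [← zero_comp (f := b.f n), cancel_mono] at h2
    exact mappingCone.ext_to φ₁ n (n + 1) rfl (by simpa using h1) (by simpa using h2)
  exact HomologicalComplex.mono_of_mono_f _ this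

variable (I : ℤ → CochainComplex A ℤ) (t : ∀ j : ℤ, I (j + 1) ⟶ I j) (i : ℤ)

/-- sources of the telescope -/
noncomputable abbrev src : CochainComplex A ℤ := ∐ fun n : ℕ => I (idx i n + 1)

/-- targets of the telescope -/
noncomputable abbrev tgt : CochainComplex A ℤ := ∐ fun n : ℕ => I (idx i n)

/-- summand of the target -/
noncomputable abbrev ιT (n : ℕ) : I (idx i n) ⟶ tgt I i := Sigma.ι (fun n : ℕ => I (idx i n)) n

/-- summand of the source -/
noncomputable abbrev ιS (n : ℕ) : I (idx i n + 1) ⟶ src I i := Sigma.ι (fun n : ℕ => I (idx i n + 1)) n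

/-- the next summand of the target -/
noncomputable def ιT1 (n : ℕ) : I (idx i n + 1) ⟶ tgt I i := ιT I i (n + 1)

lemma ιT1_desc {X : CochainComplex A ℤ} (f : ∀ n : ℕ, I (idx i n) ⟶ X) (n : ℕ) :
    ιT1 I i n ≫ Sigma.desc f = f (n + 1) :=
  Sigma.ι_desc _ _

/-- the telescope map -/
noncomputable def tel : src I i ⟶ tgt I i :=
  Sigma.desc fun n => ιT1 I i n - t (idx i n) ≫ ιT I i n

@[reassoc]
lemma ιS_tel (n : ℕ) :
    ιS I i n ≫ tel I t i = ιT1 I i n - t (idx i n) ≫ ιT I i n :=
  Sigma.ι_desc _ _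

/-- composite transition maps -/
noncomputable def down : ∀ n : ℕ, I (idx i n) ⟶ I i
  | 0 => 𝟙 _
  | n + 1 => t (idx i n) ≫ down n

/-- retraction components -/
noncomputable def retr : ∀ n : ℕ, I (idx i n) ⟶ src I i
  | 0 => 0
  | n + 1 => ιS I i n + t (idx i n) ≫ retr n

/-- projection to the first term -/
noncomputable def proj : tgt I i ⟶ I i := Sigma.desc (down I t i)

@[reassoc]
lemma tel_proj : tel I t i ≫ proj I t i = 0 := by
  refine Sigma.hom_ext _ _ fun n => ?_
  rw [ιS_tel_assoc, Preadditive.sub_comp, assoc, comp_zero, sub_eq_zero]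
  simp [proj, ιT, down, ιT1_desc]

/-- the telescope short complex -/
noncomputable def telSC : ShortComplex (CochainComplex A ℤ) :=
  ShortComplex.mk (tel I t i) (proj I t i) (tel_proj I t i)

/-- the telescope is split exact -/
noncomputable def telSplitting : (telSC I t i).Splitting where
  r := Sigma.desc (retr I t i)
  s := ιT I i 0
  f_r := by
    refine Sigma.hom_ext _ _ fun n => ?_
    show ιS I i n ≫ tel I t i ≫ Sigma.desc (retr I t i) = ιS I i n ≫ 𝟙 _
    rw [ιS_tel_assoc, Preadditive.sub_comp, assoc, comp_id]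
    simp [ιT, retr, ιT1_desc]
  s_g := by
    show ιT I i 0 ≫ proj I t i = 𝟙 (I i)
    simp only [proj, ιT, Sigma.ι_desc]
    rfl
  id := by
    refine Sigma.hom_ext _ _ fun n => ?_
    show ιT I i n ≫ (Sigma.desc (retr I t i) ≫ tel I t i + proj I t i ≫ ιT I i 0) = ιT I i n ≫ 𝟙 _
    rw [comp_id, Preadditive.comp_add, ← assoc, ← assoc, proj, Sigma.ι_desc, Sigma.ι_desc]
    induction n with
    | zero => simp [retr, down]
    | succ n ih =>
      simp only [retr, down, Preadditive.add_comp, assoc]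
      rw [ιS_tel, add_assoc, ← Preadditive.comp_add, ih, sub_add_cancel]
      rfl

/-- the telescope -/
noncomputable abbrev Tel : CochainComplex A ℤ := mappingCone (tel I t i)

/-- the telescope maps to the first term -/
noncomputable def toFirst : Tel I t i ⟶ I i :=
  mappingCone.descShortComplex (telSC I t i)

instance quasiIso_toFirst : QuasiIso (toFirst I t i) :=
  mappingCone.quasiIso_descShortComplex (telSplitting I t i).shortExact

/-- the first term maps to the telescope -/
noncomputable def fromFirst : I i ⟶ Tel I t i := ιT I i 0 ≫ mappingCone.inr _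

@[reassoc]
lemma fromFirst_toFirst : fromFirst I t i ≫ toFirst I t i = 𝟙 (I i) := by
  rw [fromFirst, assoc]
  refine (congrArg (ιT I i 0 ≫ ·) (mappingCone.inr_descShortComplex (telSC I t i))).trans ?_
  exact (telSplitting I t i).s_g

/-- the telescope over all integers -/
noncomputable def telAll : (∐ fun j : ℤ => I (j + 1)) ⟶ ∐ I :=
  Sigma.desc fun j => Sigma.ι I (j + 1) - t j ≫ Sigma.ι I j

/-- total telescope -/
noncomputable abbrev TelAll : CochainComplex A ℤ := mappingCone (telAll I t)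

/-- inclusion of targets -/
noncomputable def incT : tgt I i ⟶ ∐ I := Sigma.desc fun n : ℕ => Sigma.ι I (idx i n)

/-- inclusion of sources -/
noncomputable def incS : src I i ⟶ ∐ fun j : ℤ => I (j + 1) :=
  Sigma.desc fun n : ℕ => Sigma.ι (fun j : ℤ => I (j + 1)) (idx i n)

instance mono_incT : Mono (incT I i) :=
  MonoCoprod.mono_of_injective' I (idx i) (idx_injective i)

instance mono_incS : Mono (incS I i) :=
  MonoCoprod.mono_of_injective' (fun j : ℤ => I (j + 1)) (idx i) (idx_injective i)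

lemma tel_incT : tel I t i ≫ incT I i = incS I i ≫ telAll I t := by
  refine Sigma.hom_ext _ _ fun n => ?_
  rw [ιS_tel_assoc, Preadditive.sub_comp, assoc]
  simp [incT, incS, ιT, telAll, idx, ιT1_desc]

/-- inclusion of telescopes -/
noncomputable def inc : Tel I t i ⟶ TelAll I t :=
  mappingCone.map _ _ (incS I i) (incT I i) (tel_incT I t i)

instance mono_inc : Mono (inc I t i) := mono_coneMap _ _ _ _ _

lemma ι_eqToHom {T : Type} (K : T → CochainComplex A ℤ) {a b : T} (h : a = b) :
    eqToHom (congrArg K h) ≫ Sigma.ι K b = Sigma.ι K a := by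
  subst h; simp

/-- shift of targets -/
noncomputable def shT : tgt I (i + 1) ⟶ tgt I i :=
  Sigma.desc fun n => eqToHom (congrArg I (idx_succ_left i n)) ≫ ιT I i (n + 1)

/-- shift of sources -/
noncomputable def shS : src I (i + 1) ⟶ src I i :=
  Sigma.desc fun n => eqToHom (congrArg (fun j => I (j + 1)) (idx_succ_left i n)) ≫ ιS I i (n + 1)

lemma shT_incT : shT I i ≫ incT I i = incT I (i + 1) := by
  refine Sigma.hom_ext _ _ fun n => ?_
  simp only [shT, incT, ιT, Sigma.ι_desc_assoc, assoc, Sigma.ι_desc]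
  exact ι_eqToHom I (idx_succ_left i n)

lemma shS_incS : shS I i ≫ incS I i = incS I (i + 1) := by
  refine Sigma.hom_ext _ _ fun n => ?_
  simp only [shS, incS, ιS, Sigma.ι_desc_assoc, assoc, Sigma.ι_desc]
  exact ι_eqToHom (fun j => I (j + 1)) (idx_succ_left i n)

lemma tel_shT : tel I t (i + 1) ≫ shT I i = shS I i ≫ tel I t i := by
  rw [← cancel_mono (incT I i), assoc, assoc, shT_incT, tel_incT, tel_incT, ← assoc, shS_incS]

/-- transition of telescopes -/
noncomputable def sh : Tel I t (i + 1) ⟶ Tel I t i :=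
  mappingCone.map _ _ (shS I i) (shT I i) (tel_shT I t i)

lemma sh_inc : sh I t i ≫ inc I t i = inc I t (i + 1) := by
  rw [sh, inc, ← mappingCone.map_comp, inc]
  simp only [shS_incS, shT_incT]

omit [HasColimitsOfSize.{0, 0} A] in
lemma inr_map {K₁ L₁ K₂ L₂ : CochainComplex A ℤ} (φ₁ : K₁ ⟶ L₁) (φ₂ : K₂ ⟶ L₂)
    (a : K₁ ⟶ K₂) (b : L₁ ⟶ L₂) (comm : φ₁ ≫ b = a ≫ φ₂) :
    mappingCone.inr φ₁ ≫ mappingCone.map φ₁ φ₂ a b comm = b ≫ mappingCone.inr φ₂ := by
  simp [mappingCone.map]

lemma fromFirst_inc : fromFirst I t i ≫ inc I t i = Sigma.ι I i ≫ mappingCone.inr _ := by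
  rw [fromFirst, assoc, inc, inr_map, ← assoc]
  simp [incT, ιT, idx]

lemma fromFirst_sh_toFirst :
    fromFirst I t (i + 1) ≫ sh I t i ≫ toFirst I t i = t i := by
  have h1 : mappingCone.inr _ ≫ toFirst I t i = proj I t i :=
    mappingCone.inr_descShortComplex (telSC I t i)
  have h2 : mappingCone.inr _ ≫ sh I t i = shT I i ≫ mappingCone.inr _ := inr_map _ _ _ _ _
  rw [fromFirst, assoc, reassoc_of% h2, h1]
  simp [shT, ιT, proj, down, idx]

variable {E : CochainComplex A ℤ} (a : ∀ j, I j ⟶ E)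

lemma exists_fromAll (h : ∀ j, Nonempty (Homotopy (t j ≫ a j) (a (j + 1)))) :
    ∃ α : TelAll I t ⟶ E, ∀ j, Sigma.ι I j ≫ mappingCone.inr _ ≫ α = a j := by
  obtain ⟨β, hβ⟩ := KInj.exists_delta_eq (telAll I t ≫ Sigma.desc a)
    (nonempty_homotopy_of_sigma _ fun j => ⟨by
      refine (Homotopy.ofEq ?_).trans (Homotopy.equivSubZero (h j).some.symm)
      simp [telAll]⟩).some
  exact ⟨mappingCone.desc _ β (Sigma.desc a) hβ, fun j => by simp⟩

end Groth.Agent.FilTower
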