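import Groth.Agent.FilTower.Basic
import Groth.Prelude.Def_SpSeq

/-!
Filtered complexes representing towers in the derived category.
-/

set_option autoImplicit false
set_option backward.isDefEq.respectTransparency false
set_option backward.isDefEq.respectTransparency.types false

universe w v u

open CategoryTheory Category Limits CochainComplex DerivedCategory

namespace Groth.Agent.FilTower

variable {A : Type u} [Category.{v} A] [Abelian A] [HasDerivedCategory.{w} A]

lemma isIso_Q_fst (E M : CochainComplex A ℤ) :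
    IsIso ((DerivedCategory.Q (C := A)).map (biprod.fst : E ⊞ mappingCone (𝟙 M) ⟶ E)) := by
  refine ⟨Q.map biprod.inl, ?_, ?_⟩
  · rw [← Q.map_comp, ← Q.map_id]
    refine DerivedCategory.Q_map_eq_of_homotopy (C := A) ?_
    refine (Homotopy.ofEq ?_).trans
      ((Homotopy.add (Homotopy.refl (biprod.fst ≫ biprod.inl))
        ((((mappingCone.homotopyToZeroOfId M).compRight biprod.inr).compLeft biprod.snd).symm)).trans
        (Homotopy.ofEq ?_))
    · simp
    · simp
  · rw [← Q.map_comp, biprod.inl_fst, Q.map_id]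

theorem exists_filCx [IsGrothendieckAbelian.{v} A]
    (E : DerivedCategory A) (Es : ℤ → DerivedCategory A) (t : ∀ i : ℤ, Es (i + 1) ⟶ Es i)
    (a : ∀ i : ℤ, Es i ⟶ E) (hat : ∀ i : ℤ, t i ≫ a i = a (i + 1)) :
    ∃ (K : SpSeq.FilCx A) (e : Q.obj K.obj ≅ E) (ei : ∀ i : ℤ, Q.obj (K.step i) ≅ Es i),
      (∀ i : ℤ, Q.map (K.fil i).arrow ≫ e.hom = (ei i).hom ≫ a i) ∧
      (∀ i : ℤ, Q.map (K.stepLE (le_of_lt (Int.lt_succ_self i))) ≫ (ei i).hom =
        (ei (i + 1)).hom ≫ t i) := by
  obtain ⟨E0, hE0, ⟨e0⟩⟩ := HDU.exists_kInj_rep E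
  choose I hI eI using fun j => HDU.exists_kInj_rep (Es j)
  let eI' := fun j => (eI j).some
  choose t₀ ht₀ using fun j => (haveI := hI j
    KInj.Q_map_surjective (K := I (j + 1)) (I := I j) ((eI' (j + 1)).hom ≫ t j ≫ (eI' j).inv))
  choose a₀ ha₀ using fun j =>
    KInj.Q_map_surjective (K := I j) (I := E0) ((eI' j).hom ≫ a j ≫ e0.inv)
  obtain ⟨α, hα⟩ := exists_fromAll I t₀ a₀ fun j => ⟨Homotopy.equivSubZero.symm
    (KInj.nonempty_homotopy_of_Q_map_eq (by
      rw [CategoryTheory.Functor.map_comp, ht₀, ha₀, ha₀]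
      simp [reassoc_of% (hat j)])).some⟩
  let m := fun i => inc I t₀ i ≫ biprod.lift α (mappingCone.inr (𝟙 (TelAll I t₀)))
  have hmono : Mono (biprod.lift α (mappingCone.inr (𝟙 (TelAll I t₀)))) := by
    have : ∀ k, Mono ((mappingCone.inr (𝟙 (TelAll I t₀))).f k) := fun k => mono_of_mono_fac
      (mappingCone.inr_f_snd_v (𝟙 (TelAll I t₀)) k)
    have : Mono (mappingCone.inr (𝟙 (TelAll I t₀))) := HomologicalComplex.mono_of_mono_f _ this
    exact mono_of_mono_fac (biprod.lift_snd _ _)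
  have hm : ∀ i, Mono (m i) := fun i => mono_comp _ _
  have hanti : Antitone fun i => Subobject.mk (m i) := antitone_int_of_succ_le fun i =>
    Subobject.mk_le_mk_of_comm (sh I t₀ i) (by simp [m, reassoc_of% (sh_inc I t₀ i)])
  have hs : ∀ i, IsIso (Q.map (fromFirst I t₀ i)) := fun i => by
    have : IsIso (Q.map (fromFirst I t₀ i) ≫ Q.map (toFirst I t₀ i)) := by
      rw [← CategoryTheory.Functor.map_comp, fromFirst_toFirst, CategoryTheory.Functor.map_id]; infer_instance
    exact IsIso.of_isIso_comp_right _ (Q.map (toFirst I t₀ i))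
  have hs' : ∀ i, Q.map (fromFirst I t₀ i) ≫ Q.map (toFirst I t₀ i) = 𝟙 _ := fun i => by
    rw [← CategoryTheory.Functor.map_comp, fromFirst_toFirst, CategoryTheory.Functor.map_id]
  have := isIso_Q_fst (A := A) E0 (TelAll I t₀)
  refine ⟨⟨_, fun i => Subobject.mk (m i), hanti⟩,
    asIso (Q.map biprod.fst) ≪≫ e0,
    fun i => Q.mapIso (Subobject.underlyingIso (m i)) ≪≫ asIso (Q.map (toFirst I t₀ i)) ≪≫ eI' i,
    fun i => ?_, fun i => ?_⟩
  · have h1 : Q.map (inc I t₀ i ≫ α) ≫ e0.hom = Q.map (toFirst I t₀ i) ≫ (eI' i).hom ≫ a i := by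
      have := hs i
      rw [← cancel_epi (Q.map (fromFirst I t₀ i)), reassoc_of% (hs' i), ← CategoryTheory.Functor.map_comp_assoc,
        reassoc_of% (fromFirst_inc I t₀ i), hα, ha₀]
      simp
    show Q.map (Subobject.mk (m i)).arrow ≫ Q.map biprod.fst ≫ e0.hom =
      (Q.map (Subobject.underlyingIso (m i)).hom ≫ Q.map (toFirst I t₀ i) ≫ (eI' i).hom) ≫ a i
    rw [assoc, assoc, ← h1, ← CategoryTheory.Functor.map_comp_assoc, ← CategoryTheory.Functor.map_comp_assoc]
    congr 2
    rw [← Subobject.underlyingIso_hom_comp_eq_mk (m i)]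
    simp only [m, assoc, biprod.lift_fst]
  · have h1 : Q.map (sh I t₀ i ≫ toFirst I t₀ i) ≫ (eI' i).hom =
        Q.map (toFirst I t₀ (i + 1)) ≫ (eI' (i + 1)).hom ≫ t i := by
      have := hs (i + 1)
      rw [← cancel_epi (Q.map (fromFirst I t₀ (i + 1))), reassoc_of% (hs' (i + 1)),
        ← CategoryTheory.Functor.map_comp_assoc, fromFirst_sh_toFirst, ht₀]
      simp
    show Q.map (Subobject.ofLE _ _ _) ≫ Q.map (Subobject.underlyingIso (m i)).hom ≫
        Q.map (toFirst I t₀ i) ≫ (eI' i).hom =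
      (Q.map (Subobject.underlyingIso (m (i + 1))).hom ≫ Q.map (toFirst I t₀ (i + 1)) ≫
        (eI' (i + 1)).hom) ≫ t i
    rw [assoc, assoc, ← h1, ← CategoryTheory.Functor.map_comp_assoc, ← CategoryTheory.Functor.map_comp_assoc,
      ← CategoryTheory.Functor.map_comp_assoc]
    congr 2
    rw [← assoc]
    congr 1
    rw [← cancel_mono (m i)]
    simp only [assoc, Subobject.underlyingIso_hom_comp_eq_mk, Subobject.ofLE_arrow]
    rw [← Subobject.underlyingIso_hom_comp_eq_mk (m (i + 1))]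
    simp [m, reassoc_of% (sh_inc I t₀ i)]

end Groth.Agent.FilTower
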